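import Mathlib
import Groth.Agent.QRegLib.Basic
import Groth.Agent.S0611

/-!
Minimal generating families of ideals cut out by regular sequences.
-/

set_option autoImplicit false
universe u
open IsLocalRing RingTheory.Sequence

namespace Groth.Agent.LciIndepLib

variable {R : Type u} [CommRing R] [IsLocalRing R]

/-- The family is independent modulo `m J`. -/
def Indep {c : ℕ} (ks : Fin c → R) (J : Ideal R) : Prop :=
  ∀ a : Fin c → R, (∑ i, a i * ks i) ∈ maximalIdeal R * J → ∀ i, a i ∈ maximalIdeal R

theorem ofList_ofFn {c : ℕ} (a : Fin c → R) : Ideal.ofList (List.ofFn a) = Ideal.span (Set.range a) := by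
  rw [Ideal.ofList]
  congr 1
  ext z
  simp [List.mem_ofFn]

theorem mem_mul_span {n : ℕ} (a : Fin n → R) (M : Ideal R) (z : R) (hz : z ∈ M * Ideal.span (Set.range a)) :
    ∃ d : Fin n → R, (∀ i, d i ∈ M) ∧ ∑ i, d i * a i = z := by
  induction hz using Submodule.mul_induction_on' with
  | mem_mul_mem r hr y hy =>
    obtain ⟨d, rfl⟩ := Ideal.mem_span_range_iff_exists_fun.1 hy
    exact ⟨fun i => r * d i, fun i => Ideal.mul_mem_right _ _ hr, by
      rw [Finset.mul_sum]; exact Finset.sum_congr rfl fun i _ => by ring⟩
  | add x _ y _ hx hy =>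
    obtain ⟨d, hd, rfl⟩ := hx
    obtain ⟨e, he, rfl⟩ := hy
    exact ⟨d + e, fun i => add_mem (hd i) (he i), by
      simp only [Pi.add_apply, add_mul, Finset.sum_add_distrib]⟩

/-- A regular sequence is independent modulo `m` times the ideal it generates. -/
theorem indep_of_regular {n : ℕ} (a : Fin n → R) (ha : IsRegular R (List.ofFn a)) :
    Indep a (Ideal.span (Set.range a)) := by
  classical
  intro c hc i
  obtain ⟨d, hd, hde⟩ := mem_mul_span a _ _ hc
  have hne : Ideal.span (Set.range a) ≠ ⊤ := fun h => ha.top_ne_smul (by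
    rw [ofList_ofFn, h, smul_eq_mul, Ideal.mul_top])
  have hq := QRegLib.isQuasiRegular_of_isWeaklyRegular a ha.toIsWeaklyRegular
  let P : MvPolynomial (Fin n) R := ∑ j, MvPolynomial.C (c j - d j) * MvPolynomial.X j
  have hP : P.IsHomogeneous 1 := MvPolynomial.IsHomogeneous.sum _ _ _ fun j _ => by
    exact MvPolynomial.isHomogeneous_C_mul_X _ _
  have hev : MvPolynomial.eval a P = 0 := by
    simp only [P, map_sum, map_mul, MvPolynomial.eval_C, MvPolynomial.eval_X, sub_mul,
      Finset.sum_sub_distrib, hde, sub_self]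
  have h := hq 1 P hP (by rw [hev]; exact zero_mem _) (Finsupp.single i 1)
  have hco : P.coeff (Finsupp.single i 1) = c i - d i := by
    simp only [P, MvPolynomial.coeff_sum, MvPolynomial.coeff_C_mul]
    rw [Finset.sum_eq_single i]
    · simp
    · intro j _ hj
      rw [MvPolynomial.coeff_X, if_neg (fun h => hj (Finsupp.single_left_injective one_ne_zero h)), mul_zero]
    · simp
  rw [hco] at h
  simpa using add_mem (le_maximalIdeal hne h) (hd i)

theorem le_of_indep {n c : ℕ} (a : Fin n → R) (ks : Fin c → R) (hks : ∀ i, ks i ∈ Ideal.span (Set.range a))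
    (hind : Indep ks (Ideal.span (Set.range a))) : c ≤ n := by
  classical
  choose M hM using fun i => Ideal.mem_span_range_iff_exists_fun.1 (hks i)
  let k := ResidueField R
  let φ : (Fin c → k) →ₗ[k] (Fin n → k) :=
    ∑ i, (LinearMap.proj i).smulRight (fun j => residue R (M i j))
  have hinj : Function.Injective φ := by
    rw [← LinearMap.ker_eq_bot, LinearMap.ker_eq_bot']
    intro v hv
    choose w hw using fun i => residue_surjective (v i)
    funext i
    rw [← hw i, Pi.zero_apply, residue_eq_zero_iff]
    refine hind w ?_ i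
    have he : (∑ i, w i * ks i) = ∑ j, (∑ i, w i * M i j) * a j := by
      simp only [← hM, Finset.mul_sum, Finset.sum_mul, mul_assoc]
      exact Finset.sum_comm
    rw [he]
    refine Ideal.sum_mem _ fun j _ => Ideal.mul_mem_mul ?_ (Ideal.subset_span ⟨j, rfl⟩)
    rw [← residue_eq_zero_iff, map_sum]
    have h2 := congrFun hv j
    simpa [φ, map_mul, hw] using h2
  simpa using LinearMap.finrank_le_finrank_of_injective hinj

theorem indep_snoc {c : ℕ} (ks : Fin c → R) (J : Ideal R) (t : R) (hind : Indep ks J) (htJ : t ∈ J)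
    (htn : t ∉ Ideal.span (Set.range ks) ⊔ maximalIdeal R * J) : Indep (Fin.snoc ks t) J := by
  intro w hw
  rw [Fin.sum_univ_castSucc] at hw
  simp only [Fin.snoc_castSucc, Fin.snoc_last] at hw
  have hlast : w (Fin.last _) ∈ maximalIdeal R := by
    by_contra hu
    obtain ⟨v, hv⟩ := (notMem_maximalIdeal.1 hu).exists_left_inv
    refine htn ?_
    rw [show t = v * ((∑ i, w i.castSucc * ks i) + w (Fin.last _) * t) - v * (∑ i, w i.castSucc * ks i) by
      linear_combination -t * hv]
    exact sub_mem (Ideal.mul_mem_left _ _ (Submodule.mem_sup_right hw))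
      (Ideal.mul_mem_left _ _ (Submodule.mem_sup_left
        (Ideal.sum_mem _ fun i _ => Ideal.mul_mem_left _ _ (Ideal.subset_span ⟨i, rfl⟩))))
  intro i
  induction i using Fin.lastCases with
  | last => exact hlast
  | cast i =>
    exact hind (fun i => w i.castSucc) ((Ideal.add_mem_iff_left _ (Ideal.mul_mem_mul hlast htJ)).1 hw) i

theorem snoc_mem {c : ℕ} {ks : Fin c → R} {J : Ideal R} {t : R} (hks : ∀ i, ks i ∈ J) (ht : t ∈ J) :
    ∀ i, (Fin.snoc ks t : Fin (c + 1) → R) i ∈ J := fun i => by
  induction i using Fin.lastCases with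
  | last => simpa using ht
  | cast i => simpa using hks i

/-- An independent family in an ideal cut out by a regular sequence extends to one, by elements of any
given generating set. -/
theorem exists_extend [IsNoetherianRing R] {n : ℕ} (a : Fin n → R) (ha : IsRegular R (List.ofFn a))
    (T : Set R) (hT : Ideal.span T = Ideal.span (Set.range a)) (j : ℕ) :
    ∀ {c : ℕ} (ks : Fin c → R), (∀ i, ks i ∈ Ideal.span (Set.range a)) →
      Indep ks (Ideal.span (Set.range a)) → n ≤ c + j →
      ∃ (bs : List R), (∀ b ∈ bs, b ∈ T) ∧ Ideal.ofList (List.ofFn ks ++ bs) = Ideal.span (Set.range a) ∧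
        IsRegular R (List.ofFn ks ++ bs) := by
  classical
  induction j with
  | zero =>
    intro c ks hks hind hle
    obtain rfl : c = n := le_antisymm (le_of_indep a ks hks hind) (by omega)
    have hgen : Ideal.span (Set.range ks) = Ideal.span (Set.range a) := by
      refine le_antisymm (Ideal.span_le.2 (by rintro _ ⟨i, rfl⟩; exact hks i)) ?_
      refine Submodule.le_of_le_smul_of_le_jacobson_bot (I := maximalIdeal R)
        (IsNoetherian.noetherian _) (maximalIdeal_le_jacobson ⊥) ?_
      by_contra hcon
      obtain ⟨t, ht, htn⟩ := SetLike.not_le_iff_exists.1 hcon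
      have := le_of_indep a (Fin.snoc ks t) (snoc_mem hks ht)
        (indep_snoc ks _ t hind ht htn)
      omega
    refine ⟨[], by simp, by rw [List.append_nil, ofList_ofFn, hgen], ?_⟩
    rw [List.append_nil]
    exact S0611.result a ks ha hgen.symm
  | succ j ih =>
    intro c ks hks hind hle
    by_cases hc : n ≤ c + j
    · exact ih ks hks hind hc
    obtain ⟨t, htT, htn⟩ : ∃ t ∈ T, t ∉ Ideal.span (Set.range ks) ⊔ maximalIdeal R * Ideal.span (Set.range a) := by
      by_contra! hall
      have h1 : Ideal.span (Set.range a) ≤ Ideal.span (Set.range ks) :=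
        Submodule.le_of_le_smul_of_le_jacobson_bot (I := maximalIdeal R)
          (IsNoetherian.noetherian _) (maximalIdeal_le_jacobson ⊥) (by
            rw [smul_eq_mul]; exact hT.symm.le.trans (Ideal.span_le.2 hall))
      have h2 : n ≤ c := le_of_indep ks a (fun i => h1 (Ideal.subset_span ⟨i, rfl⟩)) (by
        rw [show Ideal.span (Set.range ks) = Ideal.span (Set.range a) from
          le_antisymm (Ideal.span_le.2 (by rintro _ ⟨i, rfl⟩; exact hks i)) h1]
        exact indep_of_regular a ha)
      omega
    have htI : t ∈ Ideal.span (Set.range a) := hT ▸ Ideal.subset_span htT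
    obtain ⟨bs, h1, h2, h3⟩ := ih (Fin.snoc ks t) (snoc_mem hks htI) (indep_snoc ks _ t hind htI htn)
      (by omega)
    have he : List.ofFn (Fin.snoc ks t) ++ bs = List.ofFn ks ++ (t :: bs) := by
      rw [List.ofFn_succ']
      simp [List.append_assoc]
    rw [he] at h2 h3
    exact ⟨t :: bs, by simpa [htT] using h1, h2, h3⟩

end Groth.Agent.LciIndepLib
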