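import Mathlib
import Groth.Agent.LciIndepLib.Gens
import Groth.Agent.RegLocal.Basic
import Groth.Agent.S5774

/-!
Regular ideals along a surjection of flat algebras with regular closed fibres.
-/

set_option autoImplicit false
set_option backward.isDefEq.respectTransparency false
universe u
open IsLocalRing RingTheory.Sequence

namespace Groth.Agent.LciIndepLib

/-- The ideal is generated by a regular sequence. -/
def RS (R : Type u) [CommRing R] (J : Ideal R) : Prop :=
  ∃ rs : List R, Ideal.ofList rs = J ∧ IsRegular R rs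

theorem isRegular_of_weakly {R : Type u} [CommRing R] [IsLocalRing R] [IsNoetherianRing R] {J : Ideal R}
    (hJ : J ≠ ⊤) {rs : List R} (h : Ideal.ofList rs = J) (hw : IsWeaklyRegular R rs) : IsRegular R rs :=
  IsRegular.of_isWeaklyRegular_of_mem_maximalIdeal R
    (fun r hr => le_maximalIdeal hJ (h ▸ Ideal.subset_span hr)) hw

theorem rs_iff_fin {R : Type u} [CommRing R] {J : Ideal R} :
    RS R J ↔ ∃ (n : ℕ) (a : Fin n → R), Ideal.span (Set.range a) = J ∧ IsRegular R (List.ofFn a) := by
  constructor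
  · rintro ⟨rs, h1, h2⟩
    refine ⟨rs.length, rs.get, ?_, by rwa [List.ofFn_get]⟩
    rw [← h1, ← List.ofFn_get rs, Ideal.ofList]
    congr 1
    ext z
    simp [List.mem_ofFn]
  · rintro ⟨n, a, h1, h2⟩
    refine ⟨List.ofFn a, ?_, h2⟩
    rw [← h1, Ideal.ofList]
    congr 1
    ext z
    simp [List.mem_ofFn]

variable {A T S : Type u} [CommRing A] [IsLocalRing A] [IsNoetherianRing A]
  [CommRing T] [IsLocalRing T] [IsNoetherianRing T] [Algebra A T] [IsLocalHom (algebraMap A T)] [Module.Flat A T]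
  [CommRing S] [IsLocalRing S] [IsNoetherianRing S] [Algebra A S] [IsLocalHom (algebraMap A S)] [Module.Flat A S]

/-- The kernel of a surjection of flat algebras with regular closed fibres is cut out by a regular
sequence which is independent modulo the square of the maximal ideal. -/
theorem exists_ker_gens [hT : IsRegularLocalRing (T ⧸ (maximalIdeal A).map (algebraMap A T))]
    [hS : IsRegularLocalRing (S ⧸ (maximalIdeal A).map (algebraMap A S))]
    (π : T →ₐ[A] S) (hπ : Function.Surjective π) :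
    ∃ (c : ℕ) (ks : Fin c → T), Ideal.span (Set.range ks) = RingHom.ker π.toRingHom ∧
      IsWeaklyRegular T (List.ofFn ks) ∧
      ∀ a : Fin c → T, (∑ i, a i * ks i) ∈ maximalIdeal T * maximalIdeal T → ∀ i, a i ∈ maximalIdeal T := by
  classical
  set mT := (maximalIdeal A).map (algebraMap A T) with hmT
  set mS := (maximalIdeal A).map (algebraMap A S) with hmS
  have hmap : mT.map π.toRingHom = mS := by
    rw [hmT, hmS, Ideal.map_map]
    congr 1
    exact RingHom.ext fun a => π.commutes a
  let πb : T ⧸ mT →+* S ⧸ mS := Ideal.quotientMap mS π.toRingHom (Ideal.map_le_iff_le_comap.1 hmap.le)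
  have hπb : Function.Surjective πb := Ideal.quotientMap_surjective hπ
  set K := RingHom.ker π.toRingHom
  have hker : RingHom.ker πb = K.map (Ideal.Quotient.mk mT) := by
    ext z
    obtain ⟨t, rfl⟩ := Ideal.Quotient.mk_surjective z
    rw [RingHom.mem_ker, Ideal.quotientMap_mk, Ideal.Quotient.eq_zero_iff_mem, ← hmap, ← Ideal.mem_comap,
      Ideal.comap_map_of_surjective' π.toRingHom hπ]
    constructor
    · intro h
      have h2 := Ideal.mem_map_of_mem (Ideal.Quotient.mk mT) h
      rwa [Ideal.map_sup, Ideal.map_quotient_self, bot_sup_eq] at h2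
    · intro h
      have h2 := Ideal.mem_comap.2 h
      rwa [Ideal.comap_map_of_surjective' _ Ideal.Quotient.mk_surjective, Ideal.mk_ker, sup_comm] at h2
  haveI : IsRegularLocalRing ((T ⧸ mT) ⧸ RingHom.ker πb) :=
    IsRegularLocalRing.of_ringEquiv (R := S ⧸ mS) (R' := (T ⧸ mT) ⧸ RingHom.ker πb)
      (RingHom.quotientKerEquivOfSurjective hπb).symm
  obtain ⟨d, hd⟩ := RegLocal.exists_nat_ringKrullDim (T ⧸ mT)
  obtain ⟨x, c, hc, hx, hxk⟩ := RegLocal.exists_generators_of_quot_regular (T ⧸ mT) hd (RingHom.ker πb)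
  have hlift : ∀ i : Fin c, ∃ t ∈ K, Ideal.Quotient.mk mT t = x (Fin.castLE hc i) := fun i =>
    (Ideal.mem_map_iff_of_surjective _ Ideal.Quotient.mk_surjective).1
      (hker ▸ hxk ▸ Ideal.subset_span ⟨i, rfl⟩)
  choose ks hks hksx using hlift
  have hregx := RegLocal.isRegular_of_generators (T ⧸ mT) hd x hx
  refine ⟨c, ks, ?_, ?_, ?_⟩
  · refine le_antisymm (Ideal.span_le.2 (by rintro _ ⟨i, rfl⟩; exact hks i)) ?_
    refine Submodule.le_of_le_smul_of_le_jacobson_bot (I := mT) (IsNoetherian.noetherian _)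
      ((IsLocalRing.map_maximalIdeal_le (algebraMap A T)).trans (maximalIdeal_le_jacobson ⊥)) ?_
    intro z hz
    have h1 : Ideal.Quotient.mk mT z ∈ (Ideal.span (Set.range ks)).map (Ideal.Quotient.mk mT) := by
      rw [Ideal.map_span, ← Set.range_comp, show Ideal.Quotient.mk mT ∘ ks = fun i => x (Fin.castLE hc i) from
        funext hksx, ← hxk, hker]
      exact Ideal.mem_map_of_mem _ hz
    obtain ⟨y, hy, hyz⟩ := (Ideal.mem_map_iff_of_surjective _ Ideal.Quotient.mk_surjective).1 h1
    have hyK : y ∈ K := (Ideal.span_le.2 (by rintro _ ⟨i, rfl⟩; exact hks i) : Ideal.span (Set.range ks) ≤ K) hy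
    have hzy : z - y ∈ LinearMap.ker π.toLinearMap ⊓ (maximalIdeal A) • (⊤ : Submodule A T) := by
      refine ⟨LinearMap.mem_ker.2 (RingHom.mem_ker.1 (sub_mem hz hyK) : π.toRingHom (z - y) = 0), ?_⟩
      rw [Ideal.smul_top_eq_map]
      exact Ideal.Quotient.eq.1 hyz.symm
    rw [LinearMap.ker_inf_smul_top_eq_smul_of_flat (maximalIdeal A) π.toLinearMap hπ] at hzy
    have h2 : z - y ∈ mT * K := by
      refine Submodule.smul_induction_on hzy (fun r hr w hw => ?_) (fun a b ha hb => add_mem ha hb)
      rw [Algebra.smul_def]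
      exact Ideal.mul_mem_mul (Ideal.mem_map_of_mem _ hr) (RingHom.mem_ker.2 (LinearMap.mem_ker.1 hw))
    rw [show z = y + (z - y) by ring]
    exact add_mem (Submodule.mem_sup_left hy) (Submodule.mem_sup_right (by rwa [smul_eq_mul]))
  · have hw : IsWeaklyRegular (T ⧸ mT) (List.ofFn fun i => x (Fin.castLE hc i)) := by
      have h := hregx.toIsWeaklyRegular
      rw [← List.take_append_drop c (List.ofFn x), isWeaklyRegular_append_iff] at h
      have he : (List.ofFn fun i => x (Fin.castLE hc i)) = List.take c (List.ofFn x) := by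
        refine List.ext_getElem ?_ fun i h₁ h₂ => ?_
        · simp; omega
        · simp only [List.getElem_take, List.getElem_ofFn]
          rfl
      rw [he]
      exact h.1
    refine (S5774.result A T T (List.ofFn ks) ?_).1
    let E : (T ⧸ ((maximalIdeal A).map (algebraMap A T) • (⊤ : Submodule T T))) ≃ₗ[T] T ⧸ mT :=
      Submodule.quotEquivOfEq _ _ (by rw [smul_eq_mul, Ideal.mul_top])
    rw [E.isWeaklyRegular_congr, ← isWeaklyRegular_map_algebraMap_iff (T ⧸ mT), List.map_ofFn]
    convert hw using 2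
    funext i
    exact hksx i
  · intro a ha i
    have hne : Ideal.span (Set.range x) ≠ ⊤ := hx ▸ (maximalIdeal.isMaximal _).ne_top
    have hind := indep_of_regular x hregx
    rw [hx] at hind
    let b : Fin d → T ⧸ mT := fun j => if h : (j : ℕ) < c then Ideal.Quotient.mk mT (a ⟨j, h⟩) else 0
    have hb : ∀ i : Fin c, b (Fin.castLE hc i) = Ideal.Quotient.mk mT (a i) := fun i => by
      simp [b]
    have hsum : ∑ j, b j * x j = Ideal.Quotient.mk mT (∑ i, a i * ks i) := by
      rw [map_sum]
      refine (Fintype.sum_of_injective (Fin.castLE hc) (Fin.castLE_injective hc) _ _ (fun j hj => ?_) fun i => ?_).symm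
      · have : ¬ (j : ℕ) < c := fun h => hj ⟨⟨j, h⟩, rfl⟩
        simp [b, this]
      · rw [hb, map_mul, hksx]
    haveI : IsLocalHom (Ideal.Quotient.mk mT) := IsLocalHom.of_surjective _ Ideal.Quotient.mk_surjective
    have hloc : ∀ t ∈ maximalIdeal T, Ideal.Quotient.mk mT t ∈ maximalIdeal (T ⧸ mT) := fun t ht =>
      (mem_maximalIdeal _).2 fun hu => (mem_maximalIdeal _).1 ht (isUnit_of_map_unit _ _ hu)
    have h := hind b (by
      rw [hsum]
      have h2 := Ideal.mem_map_of_mem (Ideal.Quotient.mk mT) ha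
      rw [Ideal.map_mul] at h2
      exact Ideal.mul_mono (Ideal.map_le_iff_le_comap.2 hloc) (Ideal.map_le_iff_le_comap.2 hloc) h2)
      (Fin.castLE hc i)
    rw [hb] at h
    by_contra hu
    exact (mem_maximalIdeal _).1 h ((notMem_maximalIdeal.1 hu).map _)

theorem rs_comap_iff [IsRegularLocalRing (T ⧸ (maximalIdeal A).map (algebraMap A T))]
    [IsRegularLocalRing (S ⧸ (maximalIdeal A).map (algebraMap A S))]
    (π : T →ₐ[A] S) (hπ : Function.Surjective π) (I : Ideal S) (hI : I ≠ ⊤) :
    RS T (I.comap π.toRingHom) ↔ RS S I := by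
  obtain ⟨c, ks, hgen, hreg, hind⟩ := exists_ker_gens π hπ
  set J := I.comap π.toRingHom with hJdef
  have hJ : J ≠ ⊤ := Ideal.comap_ne_top _ hI
  have hksJ : ∀ i, ks i ∈ J := fun i => by
    have h : ks i ∈ RingHom.ker π.toRingHom := hgen ▸ Ideal.subset_span ⟨i, rfl⟩
    rw [hJdef, Ideal.mem_comap, RingHom.mem_ker.1 h]
    exact zero_mem _
  letI := π.toRingHom.toAlgebra
  let e : (T ⧸ Ideal.ofList (List.ofFn ks) • (⊤ : Submodule T T)) ≃ₗ[T] S :=
    (Submodule.quotEquivOfEq _ (LinearMap.ker (Algebra.linearMap T S)) (by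
      rw [smul_eq_mul, Ideal.mul_top, ofList_ofFn, hgen]; rfl)).trans
      ((Algebra.linearMap T S).quotKerEquivOfSurjective hπ)
  have key : ∀ bs : List T, IsWeaklyRegular T (List.ofFn ks ++ bs) ↔ IsWeaklyRegular S (bs.map π) := by
    intro bs
    rw [isWeaklyRegular_append_iff, and_iff_right hreg, e.isWeaklyRegular_congr,
      ← isWeaklyRegular_map_algebraMap_iff S]
    rfl
  constructor
  · intro h
    obtain ⟨n, a, ha, hareg⟩ := rs_iff_fin.1 h
    obtain ⟨bs, -, hbs, hbsreg⟩ := exists_extend a hareg (J : Set T) (by rw [Ideal.span_eq, ha]) n ks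
      (fun i => ha ▸ hksJ i) (fun w hw => hind w (Ideal.mul_mono_right (ha ▸ le_maximalIdeal hJ) hw)) (by omega)
    rw [ha] at hbs
    have hgenI : Ideal.ofList (bs.map π) = I := by
      have h2 : (Ideal.ofList (List.ofFn ks ++ bs)).map π.toRingHom = I := by
        rw [hbs, hJdef, Ideal.map_comap_of_surjective π.toRingHom hπ]
      rw [Ideal.ofList_append, Ideal.map_sup, ofList_ofFn, hgen, Ideal.map_ofList] at h2
      rwa [(Ideal.map_eq_bot_iff_le_ker _).2 le_rfl, bot_sup_eq] at h2
    exact ⟨bs.map π, hgenI, isRegular_of_weakly hI hgenI ((key bs).1 hbsreg.toIsWeaklyRegular)⟩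
  · rintro ⟨rs, hrs, hrsreg⟩
    obtain ⟨bs, rfl⟩ := List.map_surjective_iff.2 hπ rs
    have hgenJ : Ideal.ofList (List.ofFn ks ++ bs) = J := by
      rw [Ideal.ofList_append, ofList_ofFn, hgen, hJdef, ← hrs,
        show (Ideal.ofList (bs.map π) : Ideal S) = (Ideal.ofList bs).map π.toRingHom from
          (Ideal.map_ofList _ _).symm, Ideal.comap_map_of_surjective' π.toRingHom hπ, sup_comm]
    exact ⟨_, hgenJ, isRegular_of_weakly hJ hgenJ ((key bs).2 hrsreg.toIsWeaklyRegular)⟩

end Groth.Agent.LciIndepLib
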