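import Mathlib
import Groth.Agent.LciIndepLib.Surj
import Groth.Agent.RegLocal.Completion

/-!
Regular ideals, regular fibres and completion.
-/

set_option autoImplicit false
set_option backward.isDefEq.respectTransparency false
universe u
open IsLocalRing RingTheory.Sequence

namespace Groth.Agent.LciIndepLib

theorem rs_map_iff (R R' : Type u) [CommRing R] [IsLocalRing R] [IsNoetherianRing R] [CommRing R'] [IsLocalRing R']
    [IsNoetherianRing R'] [Algebra R R'] [IsLocalHom (algebraMap R R')] [Module.Flat R R'] (I : Ideal R) (hI : I ≠ ⊤) :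
    RS R' (I.map (algebraMap R R')) ↔ RS R I := by
  haveI : Module.FaithfullyFlat R R' := Module.FaithfullyFlat.of_flat_of_isLocalHom
  have hI' : I.map (algebraMap R R') ≠ ⊤ := fun h => hI (by
    rw [← Ideal.comap_map_eq_self_of_faithfullyFlat (B := R') I, h, Ideal.comap_top])
  constructor
  · intro h
    obtain ⟨n, a, ha, hareg⟩ := rs_iff_fin.1 h
    obtain ⟨bs, hbs, hgen, hreg⟩ := exists_extend a hareg (algebraMap R R' '' (I : Set R))
      (by rw [ha]; rfl) n (Fin.elim0 : Fin 0 → R') (fun i => i.elim0) (fun w _ i => i.elim0) (by omega)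
    simp only [List.ofFn_zero, List.nil_append] at hgen hreg
    choose f hfI hf using hbs
    let cs : List R := bs.pmap f fun b hb => hb
    have hcs : cs.map (algebraMap R R') = bs := by
      rw [List.map_pmap]
      conv_rhs => rw [← List.map_id bs, ← List.pmap_eq_map (p := fun b => b ∈ bs) (H := fun b hb => hb)]
      exact List.pmap_congr_left _ fun b _ hb _ => hf b hb
    have hgen' : Ideal.ofList cs = I := by
      rw [← Ideal.comap_map_eq_self_of_faithfullyFlat (B := R') (Ideal.ofList cs), Ideal.map_ofList, hcs, hgen, ha,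
        Ideal.comap_map_eq_self_of_faithfullyFlat]
    refine ⟨cs, hgen', isRegular_of_weakly hI hgen' ⟨fun i hi => ?_⟩⟩
    rw [isSMulRegular_quotient_iff_mem_of_smul_mem]
    intro y hy
    have hreg' : IsWeaklyRegular R' (cs.map (algebraMap R R')) := by rw [hcs]; exact hreg.toIsWeaklyRegular
    have h1 := hreg'.regular_mod_prev i (by simpa using hi)
    rw [isSMulRegular_quotient_iff_mem_of_smul_mem] at h1
    simp only [smul_eq_mul, Ideal.mul_top] at h1 hy ⊢
    rw [← List.map_take, ← Ideal.map_ofList, List.getElem_map] at h1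
    rw [← Ideal.comap_map_eq_self_of_faithfullyFlat (B := R') (Ideal.ofList (cs.take i)), Ideal.mem_comap] at hy ⊢
    rw [map_mul] at hy
    exact h1 _ hy
  · rintro ⟨rs, hrs, hreg⟩
    have hgen : Ideal.ofList (rs.map (algebraMap R R')) = I.map (algebraMap R R') := by
      rw [← Ideal.map_ofList, hrs]
    exact ⟨_, hgen, isRegular_of_weakly hI' hgen hreg.toIsWeaklyRegular.of_flat⟩

theorem regular_fibre_completion {A S : Type u} [CommRing A] [IsLocalRing A] [CommRing S] [IsLocalRing S]
    [IsNoetherianRing S] [Algebra A S]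
    [IsRegularLocalRing (S ⧸ (maximalIdeal A).map (algebraMap A S))] :
    IsRegularLocalRing (AdicCompletion (maximalIdeal S) S ⧸
      (maximalIdeal A).map (algebraMap A (AdicCompletion (maximalIdeal S) S))) := by
  set H := AdicCompletion (maximalIdeal S) S
  set J := (maximalIdeal A).map (algebraMap A S) with hJdef
  have hmap : (maximalIdeal A).map (algebraMap A H) = J.map (algebraMap S H) := by
    rw [hJdef, Ideal.map_map, ← IsScalarTower.algebraMap_eq]
  rw [hmap]
  have hJ : J ≠ ⊤ := Ideal.Quotient.nontrivial_iff.1 inferInstance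
  have hJH : J.map (algebraMap S H) ≤ maximalIdeal H := by
    rw [AdicCompletion.maximalIdeal_eq_map]
    exact Ideal.map_mono (le_maximalIdeal hJ)
  haveI : Nontrivial (H ⧸ J.map (algebraMap S H)) :=
    Ideal.Quotient.nontrivial_iff.2 fun h => (maximalIdeal.isMaximal H).ne_top (top_le_iff.1 (h ▸ hJH))
  haveI : IsLocalRing (H ⧸ J.map (algebraMap S H)) := IsLocalRing.of_surjective' _ Ideal.Quotient.mk_surjective
  set φ := algebraMap (S ⧸ J) (H ⧸ J.map (algebraMap S H))
  haveI : Module.Flat (S ⧸ J) (H ⧸ J.map (algebraMap S H)) :=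
    Module.Flat.of_linearEquiv (Algebra.TensorProduct.quotIdealMapEquivQuotTensor H J).toLinearEquiv
  have hmax : (maximalIdeal (S ⧸ J)).map φ = maximalIdeal (H ⧸ J.map (algebraMap S H)) := by
    have e1 := RegLocal.maximalIdeal_quot (R := S) hJ
    have e2 := RegLocal.maximalIdeal_quot (R := H) (I := J.map (algebraMap S H))
      (Ideal.Quotient.nontrivial_iff.1 inferInstance)
    rw [e2, e1, AdicCompletion.maximalIdeal_eq_map]
    exact (Ideal.map_map (Ideal.Quotient.mk J) φ).trans
      (Ideal.map_map (algebraMap S H) (Ideal.Quotient.mk (J.map (algebraMap S H)))).symm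
  haveI : (maximalIdeal (H ⧸ J.map (algebraMap S H))).LiesOver (maximalIdeal (S ⧸ J)) := by
    refine ⟨(maximalIdeal.isMaximal (S ⧸ J)).eq_of_le ?_ ?_⟩
    · exact ((maximalIdeal.isMaximal _).isPrime.comap _).ne_top
    · rw [← hmax]; exact Ideal.le_comap_map
  refine IsRegularLocalRing.of_spanFinrank_maximalIdeal_le _ ?_
  have h1 := IsRegularLocalRing.spanFinrank_maximalIdeal (R := S ⧸ J)
  have h2 := Ideal.height_eq_height_add_of_liesOver_of_hasGoingDown (maximalIdeal (S ⧸ J))
    (maximalIdeal (H ⧸ J.map (algebraMap S H)))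
  rw [← maximalIdeal_height_eq_ringKrullDim] at h1 ⊢
  rw [h2]
  refine le_trans ?_ (WithBot.coe_le_coe.2 le_self_add)
  rw [← h1]
  have h3 : (maximalIdeal (H ⧸ J.map (algebraMap S H))).spanFinrank ≤ (maximalIdeal (S ⧸ J)).spanFinrank :=
    hmax ▸ Ideal.spanFinrank_map_le_of_fg _ (IsNoetherian.noetherian _)
  exact_mod_cast h3

theorem exists_lift_completion {A S B : Type u} [CommRing A] [CommRing S] [IsLocalRing S] [IsNoetherianRing S]
    [Algebra A S] [CommRing B] [IsLocalRing B] [IsNoetherianRing B] [IsAdicComplete (maximalIdeal B) B] [Algebra A B]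
    (g : S →ₐ[A] B) (hg : Function.Surjective g) :
    ∃ gh : AdicCompletion (maximalIdeal S) S →ₐ[A] B, Function.Surjective gh ∧
      RingHom.ker gh.toRingHom =
        (RingHom.ker g.toRingHom).map (algebraMap S (AdicCompletion (maximalIdeal S) S)) := by
  set H := AdicCompletion (maximalIdeal S) S
  haveI : IsLocalHom g.toRingHom := IsLocalHom.of_surjective _ hg
  have hmB : (maximalIdeal S).map g.toRingHom = maximalIdeal B := map_maximalIdeal_of_surjective g.toRingHom hg
  have hpow : ∀ n : ℕ, maximalIdeal S ^ n ≤ (maximalIdeal B ^ n).comap g.toRingHom := fun n => by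
    rw [← Ideal.map_le_iff_le_comap, Ideal.map_pow, hmB]
  let f : ∀ n : ℕ, H →+* B ⧸ maximalIdeal B ^ n := fun n =>
    (Ideal.quotientMap (maximalIdeal B ^ n) g.toRingHom (hpow n)).comp (AdicCompletion.evalₐ (maximalIdeal S) n).toRingHom
  have hf : ∀ {m n : ℕ} (h : m ≤ n), (Ideal.Quotient.factorPow (maximalIdeal B) h).comp (f n) = f m := by
    intro m n h
    refine RingHom.ext fun x => ?_
    obtain ⟨x, rfl⟩ := AdicCompletion.mk_surjective (maximalIdeal S) S x
    show Ideal.Quotient.mk (maximalIdeal B ^ m) (g (x.1 n)) = Ideal.Quotient.mk (maximalIdeal B ^ m) (g (x.1 m))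
    refine Ideal.Quotient.eq.2 ?_
    rw [← map_sub]
    refine hpow m ?_
    have h2 := x.2 h
    rw [SModEq.sub_mem, smul_eq_mul, Ideal.mul_top] at h2
    rw [← neg_sub]
    exact neg_mem h2
  let gh : H →+* B := IsAdicComplete.liftRingHom (maximalIdeal B) f hf
  have hgh : ∀ s : S, gh (algebraMap S H s) = g s := fun s => by
    rw [← sub_eq_zero]
    have h : gh (algebraMap S H s) - g s ∈ ⨅ n : ℕ, maximalIdeal B ^ n := Ideal.mem_iInf.2 fun n => by
      rw [← Ideal.Quotient.eq, IsAdicComplete.mk_liftRingHom]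
      simp only [f, RingHom.comp_apply, AlgHom.toRingHom_eq_coe, RingHom.coe_coe, AlgHom.commutes,
        Ideal.Quotient.algebraMap_eq, Ideal.quotientMap_mk]
    rwa [Ideal.iInf_pow_eq_bot_of_isLocalRing (I := maximalIdeal B) (maximalIdeal.isMaximal B).ne_top] at h
  have happrox : ∀ (n : ℕ) (x : H), ∃ s : S, x - algebraMap S H s ∈ maximalIdeal H ^ n := by
    have h1 : ∀ x : H, ∃ s : S, x - algebraMap S H s ∈ maximalIdeal H := fun x => by
      obtain ⟨s, hs⟩ := Ideal.Quotient.mk_surjective (AdicCompletion.evalOneₐ (maximalIdeal S) x)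
      refine ⟨s, ?_⟩
      rw [AdicCompletion.maximalIdeal_eq_map, ← AdicCompletion.ker_evalOneₐ_eq_map _ (IsNoetherian.noetherian _),
        RingHom.mem_ker, map_sub, sub_eq_zero]
      exact hs.symm.trans (AlgHom.commutes _ s).symm
    intro n
    induction n with
    | zero => exact fun x => ⟨0, by rw [pow_zero, Ideal.one_eq_top]; trivial⟩
    | succ n ih =>
      intro x
      obtain ⟨s, hs⟩ := ih x
      suffices ∀ z ∈ maximalIdeal H ^ n, ∃ t : S, z - algebraMap S H t ∈ maximalIdeal H ^ (n + 1) by
        obtain ⟨t, ht⟩ := this _ hs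
        exact ⟨s + t, by rwa [map_add, ← sub_sub]⟩
      intro z hz
      rw [AdicCompletion.maximalIdeal_eq_map, ← Ideal.map_pow] at hz
      induction hz using Submodule.span_induction with
      | mem z hz => obtain ⟨t, -, rfl⟩ := hz; exact ⟨t, by rw [sub_self]; exact zero_mem _⟩
      | zero => exact ⟨0, by simp⟩
      | add a b _ _ ha hb =>
        obtain ⟨t, ht⟩ := ha
        obtain ⟨t', ht'⟩ := hb
        exact ⟨t + t', by rw [map_add, show a + b - (algebraMap S H t + algebraMap S H t') =
          (a - algebraMap S H t) + (b - algebraMap S H t') by ring]; exact add_mem ht ht'⟩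
      | smul c z hz' hz =>
        obtain ⟨t, ht⟩ := hz
        obtain ⟨r, hr⟩ := h1 c
        refine ⟨r * t, ?_⟩
        have hz'' : z ∈ maximalIdeal H ^ n := by
          rw [AdicCompletion.maximalIdeal_eq_map, ← Ideal.map_pow]; exact hz'
        rw [smul_eq_mul, map_mul, show c * z - algebraMap S H r * algebraMap S H t =
          (c - algebraMap S H r) * z + algebraMap S H r * (z - algebraMap S H t) by ring]
        exact add_mem (by rw [pow_succ']; exact Ideal.mul_mem_mul hr hz'') (Ideal.mul_mem_left _ _ ht)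
  let gA : H →ₐ[A] B := { gh with
    commutes' := fun a => (congrArg gh (IsScalarTower.algebraMap_apply A S H a)).trans
      ((hgh _).trans (g.commutes a)) }
  have hsurj : Function.Surjective gh := fun b => by
    obtain ⟨s, hs⟩ := hg b
    exact ⟨algebraMap S H s, (hgh s).trans hs⟩
  refine ⟨gA, hsurj, le_antisymm ?_ (Ideal.map_le_iff_le_comap.2 fun s hs => ?_)⟩
  · intro x hx
    have hx' : gh x = 0 := hx
    haveI : IsLocalHom gh := IsLocalHom.of_surjective _ hsurj
    have hle : (RingHom.ker g.toRingHom).map (algebraMap S H) ≤ maximalIdeal H := by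
      rw [AdicCompletion.maximalIdeal_eq_map]
      exact Ideal.map_mono (le_maximalIdeal (RingHom.ker_ne_top _))
    set K := (RingHom.ker g.toRingHom).map (algebraMap S H)
    have h : ∀ n : ℕ, x ∈ K ⊔ maximalIdeal H ^ n := fun n => by
      obtain ⟨s, hs⟩ := happrox n x
      have hgs : g s ∈ ((maximalIdeal S) ^ n).map g.toRingHom := by
        rw [Ideal.map_pow, hmB, ← map_maximalIdeal_of_surjective gh hsurj, ← Ideal.map_pow]
        have := Ideal.mem_map_of_mem gh hs
        rwa [map_sub, hx', zero_sub, hgh, neg_mem_iff] at this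
      obtain ⟨t, ht, hts⟩ := (Ideal.mem_map_iff_of_surjective g.toRingHom hg).1 hgs
      rw [show x = algebraMap S H (s - t) + ((x - algebraMap S H s) + algebraMap S H t) by rw [map_sub]; ring]
      refine add_mem (Submodule.mem_sup_left (Ideal.mem_map_of_mem _ ?_)) (Submodule.mem_sup_right (add_mem hs ?_))
      · rw [RingHom.mem_ker, map_sub, hts]; exact sub_self _
      · rw [AdicCompletion.maximalIdeal_eq_map, ← Ideal.map_pow]
        exact Ideal.mem_map_of_mem _ ht
    rw [← Ideal.Quotient.eq_zero_iff_mem]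
    haveI : Nontrivial (H ⧸ K) := Ideal.Quotient.nontrivial_iff.2 fun h =>
      (maximalIdeal.isMaximal H).ne_top (top_le_iff.1 (h ▸ hle))
    haveI : IsLocalRing (H ⧸ K) := IsLocalRing.of_surjective' _ Ideal.Quotient.mk_surjective
    have h2 : Ideal.Quotient.mk K x ∈ ⨅ n : ℕ, maximalIdeal (H ⧸ K) ^ n := Ideal.mem_iInf.2 fun n => by
      have h3 := Ideal.mem_map_of_mem (Ideal.Quotient.mk K) (h n)
      haveI : IsLocalHom (Ideal.Quotient.mk K) := IsLocalHom.of_surjective _ Ideal.Quotient.mk_surjective
      rwa [Ideal.map_sup, Ideal.map_quotient_self, bot_sup_eq, Ideal.map_pow,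
        map_maximalIdeal_of_surjective _ Ideal.Quotient.mk_surjective] at h3
    rwa [Ideal.iInf_pow_eq_bot_of_isLocalRing (I := maximalIdeal (H ⧸ K))
      (maximalIdeal.isMaximal _).ne_top] at h2
  · rw [Ideal.mem_comap, RingHom.mem_ker]
    exact (hgh s).trans hs

end Groth.Agent.LciIndepLib
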