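import Mathlib
import Groth.Agent.LciIndepLib.Compl
import Groth.Agent.CohenPresLib.Basic
import Groth.Agent.CohenRingLib.Basic
import Groth.Agent.S2841

/-!
Two flat presentations with regular closed fibres are dominated by a third.
-/

set_option autoImplicit false
set_option backward.isDefEq.respectTransparency false
universe u
open IsLocalRing

namespace Groth.Agent.LciIndepLib

variable {A B S S' : Type u} [CommRing A] [CommRing B] [CommRing S] [CommRing S']
  [IsNoetherianRing A] [IsNoetherianRing S] [IsNoetherianRing S']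
  [IsLocalRing A] [IsLocalRing B] [IsLocalRing S] [IsLocalRing S']
  [IsAdicComplete (maximalIdeal A) A] [IsAdicComplete (maximalIdeal S) S] [IsAdicComplete (maximalIdeal S') S']
  [Algebra A B] [Algebra A S] [Algebra A S'] [IsLocalHom (algebraMap A B)]

theorem exists_dominate (g : S →ₐ[A] B) (g' : S' →ₐ[A] B) (hg : Function.Surjective g)
    (hg' : Function.Surjective g') :
    ∃ (T : Type u) (_ : CommRing T) (_ : IsLocalRing T) (_ : IsNoetherianRing T) (_ : Algebra A T)
      (_ : IsLocalHom (algebraMap A T)) (_ : Module.Flat A T)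
      (_ : IsRegularLocalRing (T ⧸ (maximalIdeal A).map (algebraMap A T)))
      (π : T →ₐ[A] S) (π' : T →ₐ[A] S'),
      Function.Surjective π ∧ Function.Surjective π' ∧ g.comp π = g'.comp π' := by
  classical
  haveI : IsLocalHom g.toRingHom := IsLocalHom.of_surjective _ hg
  haveI : IsLocalHom g'.toRingHom := IsLocalHom.of_surjective _ hg'
  obtain ⟨_, hPN, hPC⟩ := S2841.result g.toRingHom g'.toRingHom hg hg'
  let P := ↥(g.toRingHom.pullback g'.toRingHom)
  haveI : IsNoetherianRing P := hPN
  haveI : IsAdicComplete (maximalIdeal P) P := hPC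
  letI : Algebra A P := RingHom.toAlgebra
    { toFun := fun a => ⟨(algebraMap A S a, algebraMap A S' a), (g.commutes a).trans (g'.commutes a).symm⟩
      map_one' := Subtype.ext (by simp)
      map_mul' := fun a b => Subtype.ext (Prod.ext (map_mul _ a b) (map_mul _ a b))
      map_zero' := Subtype.ext (by simp)
      map_add' := fun a b => Subtype.ext (Prod.ext (map_add _ a b) (map_add _ a b)) }
  haveI : IsLocalHom (algebraMap A P) := ⟨fun a ha => by
    have h2 := (ha.map (g.toRingHom.pullback g'.toRingHom).subtype).map (RingHom.fst S S')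
    have h3 : IsUnit (algebraMap A B a) := by
      have := h2.map g.toRingHom
      rwa [show g.toRingHom ((RingHom.fst S S') ((g.toRingHom.pullback g'.toRingHom).subtype (algebraMap A P a))) =
        algebraMap A B a from g.commutes a] at this
    exact isUnit_of_map_unit _ _ h3⟩
  obtain ⟨Λ, Λ', _, _, hΛloc, n, m, ρ, σ, τ, hΛ, hρ, hσ, hcomp, hτ, hreg⟩ :=
    CohenPresLib.exists_presentation (A := A) (B := P)
  haveI : IsLocalRing Λ := hΛloc
  obtain ⟨_, _, _⟩ : IsLocalRing Λ' ∧ IsNoetherianRing Λ' ∧ IsNoetherianRing Λ := by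
    rcases hΛ with ⟨-, h1, h2⟩ | ⟨-, h1, h2⟩
    · letI := h1.toField
      letI := h2.toField
      exact ⟨inferInstance, inferInstance, inferInstance⟩
    · obtain ⟨_, _, _, -⟩ := h1
      obtain ⟨_, _, _, -⟩ := h2
      exact ⟨inferInstance, inferInstance, inferInstance⟩
  let Q := MvPowerSeries (Fin n) Λ
  let C := MvPowerSeries (Fin m) Λ'
  haveI : IsNoetherianRing C := MvPowerSeries.isNoetherianRing Λ'
  letI : Algebra Q C := τ.toAlgebra
  haveI : Module.Flat Q C := RingHom.flat_algebraMap_iff.1 hτ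
  let J : Ideal C := (RingHom.ker ρ).map (algebraMap Q C)
  let eA : A ≃+* Q ⧸ RingHom.ker ρ := (RingHom.quotientKerEquivOfSurjective hρ).symm
  let T := C ⧸ J
  letI : Algebra A T := ((algebraMap (Q ⧸ RingHom.ker ρ) T).comp eA.toRingHom).toAlgebra
  have hαρ : ∀ q : Q, algebraMap A T (ρ q) = Ideal.Quotient.mk J (τ q) := fun q => by
    have he : eA (ρ q) = Ideal.Quotient.mk (RingHom.ker ρ) q := by
      rw [RingEquiv.symm_apply_eq]; rfl
    show algebraMap (Q ⧸ RingHom.ker ρ) T (eA (ρ q)) = _
    rw [he]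
    rfl
  have hflat : Module.Flat A T := by
    rw [← RingHom.flat_algebraMap_iff, RingHom.algebraMap_toAlgebra]
    have h1 : Module.Flat (Q ⧸ RingHom.ker ρ) T :=
      Module.Flat.of_linearEquiv (Algebra.TensorProduct.quotIdealMapEquivQuotTensor C (RingHom.ker ρ)).toLinearEquiv
    exact (RingHom.Flat.of_bijective eA.bijective).comp (RingHom.flat_algebraMap_iff.2 h1)
  have hcρ : ∀ q, σ (τ q) = algebraMap A P (ρ q) := fun q => RingHom.congr_fun hcomp q
  have hJ : J ≤ RingHom.ker σ := Ideal.map_le_iff_le_comap.2 fun q hq => by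
    show σ (τ q) = 0
    rw [hcρ, RingHom.mem_ker.1 hq, map_zero]
  haveI : Nontrivial T := Ideal.Quotient.nontrivial_iff.2 fun h =>
    RingHom.ker_ne_top σ (top_le_iff.1 (h ▸ hJ))
  haveI : IsLocalRing T := IsLocalRing.of_surjective' _ Ideal.Quotient.mk_surjective
  let σb : T →ₐ[A] P := { Ideal.Quotient.lift J σ hJ with
    commutes' := fun a => by
      obtain ⟨q, rfl⟩ := hρ a
      show Ideal.Quotient.lift J σ hJ (algebraMap A T (ρ q)) = _
      rw [hαρ, Ideal.Quotient.lift_mk, hcρ] }
  have hσb : Function.Surjective σb := fun p => by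
    obtain ⟨c, rfl⟩ := hσ p
    exact ⟨Ideal.Quotient.mk J c, Ideal.Quotient.lift_mk _ _ _⟩
  haveI : IsLocalHom (algebraMap A T) := ⟨fun a ha => by
    have := ha.map σb
    rw [σb.commutes] at this
    exact isUnit_of_map_unit _ _ this⟩
  haveI : IsLocalHom ρ := IsLocalHom.of_surjective _ hρ
  have hmA : (maximalIdeal A).map (algebraMap A T) =
      ((maximalIdeal Q).map τ).map (Ideal.Quotient.mk J) := by
    rw [← map_maximalIdeal_of_surjective ρ hρ, Ideal.map_map, Ideal.map_map]
    congr 1
    exact RingHom.ext hαρ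
  have hJX : J ≤ (maximalIdeal Q).map τ := Ideal.map_mono (le_maximalIdeal (RingHom.ker_ne_top ρ))
  let e : T ⧸ (maximalIdeal A).map (algebraMap A T) ≃+* C ⧸ (maximalIdeal Q).map τ :=
    (Ideal.quotEquivOfEq hmA).trans (DoubleQuot.quotQuotEquivQuotOfLE hJX)
  haveI : IsRegularRing (C ⧸ (maximalIdeal Q).map τ) := hreg
  haveI : IsRegularRing (T ⧸ (maximalIdeal A).map (algebraMap A T)) := IsRegularRing.of_ringEquiv e.symm
  haveI : Nontrivial (T ⧸ (maximalIdeal A).map (algebraMap A T)) := Ideal.Quotient.nontrivial_iff.2 fun h =>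
    (maximalIdeal.isMaximal T).ne_top (top_le_iff.1 (h.ge.trans (IsLocalRing.map_maximalIdeal_le _)))
  haveI : IsLocalRing (T ⧸ (maximalIdeal A).map (algebraMap A T)) :=
    IsLocalRing.of_surjective' _ Ideal.Quotient.mk_surjective
  let p₁ : P →ₐ[A] S := { (RingHom.fst S S').comp (g.toRingHom.pullback g'.toRingHom).subtype with
    commutes' := fun a => rfl }
  let p₂ : P →ₐ[A] S' := { (RingHom.snd S S').comp (g.toRingHom.pullback g'.toRingHom).subtype with
    commutes' := fun a => rfl }
  refine ⟨T, inferInstance, inferInstance, inferInstance, inferInstance, inferInstance, hflat,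
    IsRegularLocalRing.of_isRegularRing_of_isLocalRing _, p₁.comp σb, p₂.comp σb, ?_, ?_,
    AlgHom.ext fun t => (σb t).2⟩
  · refine Function.Surjective.comp (g := p₁) (fun s => ?_) hσb
    obtain ⟨y, hy⟩ := hg' (g s)
    exact ⟨⟨(s, y), hy.symm⟩, rfl⟩
  · refine Function.Surjective.comp (g := p₂) (fun s => ?_) hσb
    obtain ⟨y, hy⟩ := hg (g' s)
    exact ⟨⟨(y, s), hy⟩, rfl⟩

end Groth.Agent.LciIndepLib
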